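import Cfsg.Agent.Lib.LargeSub.Stab
import Cfsg.Agent.Lib.PIrred.Basic

/-!
# Groups generated by a transitive family of `p`-minimal or strongly `p`-irreducible subgroups

Namespace `Cfsg.Agent.TransitiveFamily`:
* `isMinimalOver_map`, `isMinimalOver_of_map`: quotients by kernels inside the subgroup;
* `isMinimalOver_sylow`: the `p`-minimal case;
* `normal_dichotomy`, `isPIrreducible`, `eq_or_commute`: the strongly `p`-irreducible case, `O_p = 1`.
-/

set_option autoImplicit false

namespace Cfsg.Agent.TransitiveFamily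

open Subgroup LargeSub
open scoped commutatorElement Pointwise

section Map

variable {A B : Type*} [Group A] [Group B]

theorem isMinimalOver_map {f : A →* B} (hf : Function.Surjective f) {T : Subgroup A}
    (hker : f.ker ≤ T) (h : Cfsg.IsMinimalOver T) : Cfsg.IsMinimalOver (T.map f) := by
  obtain ⟨hn, M, ⟨hM, hTM⟩, huniq⟩ := h
  have hback : (M.map f).comap f = M := comap_map_eq_self (hker.trans hTM)
  have hmax : IsCoatom (M.map f) := by
    refine ⟨fun h0 => hM.1 (by rw [← hback, h0, comap_top]), fun X hX => ?_⟩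
    have hlt : M < X.comap f := by
      refine lt_of_le_of_ne (hback ▸ comap_mono hX.le) fun heq => hX.ne ?_
      rw [heq, map_comap_eq_self_of_surjective hf]
    rw [← map_comap_eq_self_of_surjective hf X, hM.2 _ hlt, map_top_of_surjective f hf]
  refine ⟨?_, M.map f, ⟨hmax, map_mono hTM⟩, ?_⟩
  · rw [show ((T.map f : Subgroup B) : Set B) = f '' (T : Set A) from coe_map f T,
      ← map_normalClosure _ f hf, hn, map_top_of_surjective f hf]
  · rintro X ⟨hX, hTX⟩
    have hXc : IsCoatom (X.comap f) := by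
      refine ⟨fun h0 => hX.1 (by rw [← map_comap_eq_self_of_surjective hf X, h0,
        map_top_of_surjective f hf]), fun Y hY => ?_⟩
      have hY' : (Y.map f).comap f = Y := comap_map_eq_self ((ker_le_comap f X).trans hY.le)
      have hlt : X < Y.map f := by
        refine lt_of_le_of_ne ?_ fun heq => hY.ne (by rw [heq, hY'])
        rw [← map_comap_eq_self_of_surjective hf X]; exact map_mono hY.le
      rw [← hY', hX.2 _ hlt, comap_top]
    rw [← huniq (X.comap f) ⟨hXc, map_le_iff_le_comap.mp hTX⟩, map_comap_eq_self_of_surjective hf]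

theorem isMinimalOver_of_map {f : A →* B} (hf : Function.Surjective f) {T : Subgroup A}
    (hker : f.ker ≤ T) (h : Cfsg.IsMinimalOver (T.map f)) : Cfsg.IsMinimalOver T := by
  obtain ⟨hn, M, ⟨hM, hTM⟩, huniq⟩ := h
  have hlift : ∀ X : Subgroup A, T ≤ X → (X.map f).comap f = X := fun X hX =>
    comap_map_eq_self (hker.trans hX)
  have hMc : IsCoatom (M.comap f) := by
    refine ⟨fun h0 => hM.1 (by rw [← map_comap_eq_self_of_surjective hf M, h0,
      map_top_of_surjective f hf]), fun Y hY => ?_⟩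
    have hY' := hlift Y ((map_le_iff_le_comap.mp hTM).trans hY.le)
    have hlt : M < Y.map f := by
      refine lt_of_le_of_ne ?_ fun heq => hY.ne (by rw [heq, hY'])
      rw [← map_comap_eq_self_of_surjective hf M]; exact map_mono hY.le
    rw [← hY', hM.2 _ hlt, comap_top]
  refine ⟨?_, M.comap f, ⟨hMc, map_le_iff_le_comap.mp hTM⟩, ?_⟩
  · have h1 : (normalClosure (T : Set A)).map f = ⊤ := by
      rw [map_normalClosure _ f hf, ← coe_map f T]; exact hn
    rw [← hlift (normalClosure (T : Set A)) le_normalClosure, h1, comap_top]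
  · rintro X ⟨hX, hTX⟩
    have hXm : IsCoatom (X.map f) := by
      refine ⟨fun h0 => hX.1 (by rw [← hlift X hTX, h0, comap_top]), fun Y hY => ?_⟩
      have hlt : X < Y.comap f := by
        refine lt_of_le_of_ne (map_le_iff_le_comap.mp hY.le) fun heq => hY.ne ?_
        rw [heq, map_comap_eq_self_of_surjective hf]
      rw [← map_comap_eq_self_of_surjective hf Y, hX.2 _ hlt, map_top_of_surjective f hf]
    rw [← huniq (X.map f) ⟨hXm, map_mono hTX⟩, hlift X hTX]

end Map

variable {G : Type*} [Group G] [Finite G] {p : ℕ} [Fact p.Prime]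

/-- The standing hypotheses on the family. -/
structure Family (p : ℕ) (ℱ : Set (Subgroup G)) : Prop where
  nonempty : ℱ.Nonempty
  conj_mem : ∀ g : G, ∀ E ∈ ℱ, E.map (MulAut.conj g).toMonoidHom ∈ ℱ
  trans : ∀ E ∈ ℱ, ∀ K ∈ ℱ, ∃ g : G, K = E.map (MulAut.conj g).toMonoidHom
  residual_le : Cfsg.pResidual p G ≤ sSup ℱ
  normalized : ∀ E ∈ ℱ, sSup ℱ ≤ normalizer (E : Set G)

namespace Family

variable {ℱ : Set (Subgroup G)}

theorem sSup_normal (h : Family p ℱ) : (sSup ℱ).Normal := ⟨fun x hx g => by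
  have hle : sSup ℱ ≤ (sSup ℱ).comap (MulAut.conj g).toMonoidHom :=
    sSup_le fun E hE => map_le_iff_le_comap.mp (le_sSup (h.conj_mem g E hE))
  exact hle hx⟩

theorem isSubnormal (h : Family p ℱ) {E : Subgroup G} (hE : E ∈ ℱ) : E.IsSubnormal :=
  IsSubnormal.step E (sSup ℱ) (le_sSup hE) h.sSup_normal.isSubnormal
    (Cores.subgroupOf_normal_of_le_normalizer (h.normalized E hE))

/-- A Sylow subgroup is transitive on the family. -/
theorem exists_conj_sylow (h : Family p ℱ) (T : Sylow p G) {E K : Subgroup G} (hE : E ∈ ℱ)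
    (hK : K ∈ ℱ) : ∃ t ∈ (T : Subgroup G), K = E.map (MulAut.conj t).toMonoidHom := by
  obtain ⟨g, rfl⟩ := h.trans E hE K hK
  obtain ⟨r, hr, t, ht, rfl⟩ := PReduced.exists_eq_mul_of_pResidual T g
  refine ⟨t, ht, ?_⟩
  have hr' := h.normalized _ (h.conj_mem t E hE) (h.residual_le hr)
  rw [mem_normalizer_iff_map_conj_eq] at hr'
  rw [← hr', Subgroup.map_map]
  congr 1
  ext x
  simp [mul_assoc]

theorem sSup_sup_sylow (h : Family p ℱ) (T : Sylow p G) : sSup ℱ ⊔ (T : Subgroup G) = ⊤ :=
  top_le_iff.mp ((PReduced.pResidual_sup_sylow T).ge.trans (sup_le_sup_right h.residual_le _))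

end Family

/-! ### `p`-minimal members -/

/-- The join of the proper subgroups of `E` over `T ∩ E`. -/
def maxOver (T E : Subgroup G) : Subgroup G := sSup {X : Subgroup G | T ⊓ E ≤ X ∧ X < E}

theorem maxOver_conj {T E : Subgroup G} {g : G} (hg : g ∈ normalizer (T : Set G)) :
    (maxOver T E).map (MulAut.conj g).toMonoidHom ≤ maxOver T (E.map (MulAut.conj g).toMonoidHom) := by
  rw [map_le_iff_le_comap]
  refine sSup_le fun X hX => map_le_iff_le_comap.mp (le_sSup ⟨?_, ?_⟩)
  · refine le_trans ?_ (map_mono hX.1)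
    rw [map_inf T E (MulAut.conj g).toMonoidHom (MulAut.conj g).injective]
    exact inf_le_inf_right _ (mem_normalizer_iff_map_conj_eq.mp hg).ge
  · exact (map_lt_map_iff_of_injective (MulAut.conj g).injective).mpr hX.2

theorem exists_maxOver (T : Sylow p G) {E : Subgroup G} (hsub : E.IsSubnormal)
    (hmin : Cfsg.IsMinimalOver ((PReduced.sylowOfSubnormal T hsub : Sylow p ↥E) : Subgroup ↥E)) :
    maxOver (T : Subgroup G) E < E ∧ (T : Subgroup G) ⊓ E ≤ maxOver (T : Subgroup G) E ∧
      ∃ M₀ : Subgroup ↥E, IsCoatom M₀ ∧ M₀.map E.subtype = maxOver (T : Subgroup G) E := by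
  obtain ⟨M₀, ⟨hM₀, hTM₀⟩, huniq⟩ := hmin.2
  have hle : (T : Subgroup G) ⊓ E ≤ M₀.map E.subtype := fun x hx =>
    ⟨⟨x, hx.2⟩, hTM₀ (mem_subgroupOf.mpr hx.1), rfl⟩
  have hlt : M₀.map E.subtype < E := by
    refine lt_of_le_of_ne (map_subtype_le _) fun h => hM₀.1 ?_
    rw [← map_subtype_inj, h, ← MonoidHom.range_eq_map, range_subtype]
  have heq : maxOver (T : Subgroup G) E = M₀.map E.subtype := by
    refine le_antisymm (sSup_le fun X hX => ?_) (le_sSup ⟨hle, hlt⟩)
    have hne : X.subgroupOf E ≠ ⊤ := fun h => hX.2.not_ge (subgroupOf_eq_top.mp h)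
    obtain ⟨M, hM, hXM⟩ := (eq_top_or_exists_le_coatom (X.subgroupOf E)).resolve_left hne
    have hTX : ((PReduced.sylowOfSubnormal T hsub : Sylow p ↥E) : Subgroup ↥E) ≤ X.subgroupOf E :=
      fun x hx => mem_subgroupOf.mpr (hX.1 ⟨hx, x.2⟩)
    rw [← huniq M ⟨hM, hTX.trans hXM⟩, ← map_subgroupOf_eq_of_le hX.2.le]
    exact map_mono hXM
  exact ⟨heq ▸ hlt, heq ▸ hle, M₀, hM₀, heq.symm⟩

theorem isMinimalOver_sylow {ℱ : Set (Subgroup G)} (h : Family p ℱ)
    (hmin : ∀ E ∈ ℱ, ∀ T : Sylow p ↥E, Cfsg.IsMinimalOver (T : Subgroup ↥E)) (T : Sylow p G) :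
    Cfsg.IsMinimalOver (T : Subgroup G) := by
  set R := sSup ℱ with hR
  haveI := h.sSup_normal
  have hmE : ∀ E, ∀ hE : E ∈ ℱ, _ := fun E hE =>
    exists_maxOver T (h.isSubnormal hE) (hmin E hE _)
  constructor
  · haveI : (normalClosure ((T : Subgroup G) : Set G)).Normal := normalClosure_normal
    refine top_le_iff.mp ((h.sSup_sup_sylow T).ge.trans (sup_le (sSup_le fun E hE => ?_) le_normalClosure))
    rw [← subgroupOf_eq_top, eq_top_iff, ← (hmin E hE (PReduced.sylowOfSubnormal T (h.isSubnormal hE))).1]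
    exact normalClosure_le_normal fun x hx => mem_subgroupOf.mpr (le_normalClosure hx)
  -- the maximal subgroup over `T`
  set K := R ⊓ ⨅ E ∈ ℱ, normalizer (maxOver (T : Subgroup G) E : Set G) with hK
  have hmax : ∀ g ∈ normalizer ((T : Subgroup G) : Set G), ∀ E ∈ ℱ,
      E.map (MulAut.conj g).toMonoidHom = E → g ∈ normalizer (maxOver (T : Subgroup G) E : Set G) := by
    intro g hg E _ hgE
    refine Coprime.mem_normalizer_of_forall fun x hx => ?_
    have := maxOver_conj (E := E) hg (mem_map_of_mem _ hx)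
    rwa [hgE] at this
  have hTK : (T : Subgroup G) ≤ normalizer (K : Set G) := by
    intro t ht
    refine Coprime.mem_normalizer_of_forall fun k hk => mem_inf.mpr ⟨h.sSup_normal.conj_mem k hk.1 t, ?_⟩
    refine mem_iInf.mpr fun E => mem_iInf.mpr fun hE => Coprime.mem_normalizer_of_forall fun x hx => ?_
    set E' := E.map (MulAut.conj t⁻¹).toMonoidHom with hE'
    have h1 := maxOver_conj (E := E) (inv_mem (Subgroup.le_normalizer ht)) (mem_map_of_mem _ hx)
    have h2 := (mem_normalizer_iff.mp (mem_iInf.mp (mem_iInf.mp hk.2 E') (h.conj_mem _ E hE)) _).mp h1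
    have h3 := maxOver_conj (E := E') (Subgroup.le_normalizer ht) (mem_map_of_mem _ h2)
    have e : E'.map (MulAut.conj t).toMonoidHom = E := by
      rw [hE', Subgroup.map_map]
      conv_rhs => rw [← Subgroup.map_id E]
      congr 1; ext y; simp [mul_assoc]
    rw [e] at h3
    convert h3 using 1
    simp [mul_assoc]
  have hTR : (T : Subgroup G) ⊓ R ≤ K := fun t ht => mem_inf.mpr ⟨ht.2, mem_iInf.mpr fun E =>
    mem_iInf.mpr fun hE => hmax t (Subgroup.le_normalizer ht.1) E hE
      (mem_normalizer_iff_map_conj_eq.mp (h.normalized E hE ht.2))⟩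
  set X₀ := (T : Subgroup G) ⊔ K with hX₀
  have hne : X₀ ≠ ⊤ := by
    intro htop
    obtain ⟨E, hE⟩ := h.nonempty
    have hRK : R ≤ K := by
      intro r hr
      obtain ⟨t, ht, k, hk, rfl⟩ := (LargeSub.mem_sup_mul hTK).mp (htop ▸ mem_top r : r ∈ X₀)
      refine mul_mem (hTR (mem_inf.mpr ⟨ht, ?_⟩)) hk
      simpa using mul_mem hr (inv_mem hk.1)
    obtain ⟨hlt, hTE, -⟩ := hmE E hE
    set ME := maxOver (T : Subgroup G) E with hME
    have hEN : E ≤ normalizer (ME : Set G) :=
      ((le_sSup hE).trans hRK).trans (inf_le_right.trans (iInf₂_le E hE))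
    haveI : (ME.subgroupOf E).Normal := Cores.subgroupOf_normal_of_le_normalizer hEN
    have h1 := normalClosure_le_normal (N := ME.subgroupOf E)
      (s := (((PReduced.sylowOfSubnormal T (h.isSubnormal hE) : Sylow p ↥E) : Subgroup ↥E) : Set ↥E))
      (fun x hx => mem_subgroupOf.mpr (hTE ⟨hx, x.2⟩))
    rw [(hmin E hE (PReduced.sylowOfSubnormal T (h.isSubnormal hE))).1] at h1
    exact hlt.not_ge (subgroupOf_eq_top.mp (top_le_iff.mp h1))
  have hall : ∀ X : Subgroup G, (T : Subgroup G) ≤ X → X ≠ ⊤ → X ≤ X₀ := by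
    intro X hTX hX x hx
    obtain ⟨r, hr, t, ht, rfl⟩ := PReduced.exists_eq_mul_of_pResidual T x
    have hrX : r ∈ X := by simpa using mul_mem hx (inv_mem (hTX ht))
    have hrR : r ∈ R := h.residual_le hr
    refine mul_mem (mem_sup_right (mem_inf.mpr ⟨hrR, mem_iInf.mpr fun E => mem_iInf.mpr fun hE => ?_⟩))
      (mem_sup_left ht)
    have hEX : X ⊓ E < E := by
      refine lt_of_le_of_ne inf_le_right fun heq => hX (top_le_iff.mp ?_)
      refine (h.sSup_sup_sylow T).ge.trans (sup_le (sSup_le fun E' hE' => ?_) hTX)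
      obtain ⟨s, hs, rfl⟩ := h.exists_conj_sylow T hE hE'
      rintro _ ⟨y, hy, rfl⟩
      exact mul_mem (mul_mem (hTX hs) (inf_eq_right.mp heq hy)) (inv_mem (hTX hs))
    have hXM : X ⊓ E ≤ maxOver (T : Subgroup G) E := le_sSup ⟨inf_le_inf_right _ hTX, hEX⟩
    obtain ⟨hlt, hTE, M₀, hM₀, hM₀eq⟩ := hmE E hE
    set P₁ := PReduced.sylowOfSubnormal T (h.isSubnormal hE)
    set P₂ := PReduced.sylowOfSubnormal (r • T) (h.isSubnormal hE)
    have hin : ∀ y : ↥E, (y : G) ∈ maxOver (T : Subgroup G) E → y ∈ M₀ := fun y hy => by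
      rw [← hM₀eq] at hy
      obtain ⟨z, hz, hzy⟩ := hy
      exact E.subtype_injective hzy ▸ hz
    have hP₁ : (P₁ : Subgroup ↥E) ≤ M₀ := fun y hy => hin y (hTE ⟨hy, y.2⟩)
    have hP₂ : (P₂ : Subgroup ↥E) ≤ M₀ := by
      intro y hy
      obtain ⟨s, hs, hsy⟩ := hy
      refine hin y (hXM (mem_inf.mpr ⟨?_, y.2⟩))
      have : (y : G) = r * s * r⁻¹ := hsy.symm
      rw [this]
      exact mul_mem (mul_mem hrX (hTX hs)) (inv_mem hrX)
    obtain ⟨m, hm⟩ := MulAction.exists_smul_eq M₀ (P₂.subtype hP₂) (P₁.subtype hP₁)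
    rw [Sylow.smul_subtype] at hm
    have hm' : (m : ↥E) • P₂ = P₁ := Sylow.subtype_injective hm
    have hmr : ((m : ↥E) : G) * r ∈ normalizer (((T : Subgroup G) ⊓ E : Subgroup G) : Set G) := by
      refine Coprime.mem_normalizer_of_forall fun y hy => ?_
      have hyr : r * y * r⁻¹ ∈ E :=
        (mem_normalizer_iff.mp (h.normalized E hE hrR) y).mp hy.2
      have h1 : (⟨r * y * r⁻¹, hyr⟩ : ↥E) ∈ (P₂ : Subgroup ↥E) := ⟨y, hy.1, rfl⟩
      have h2 := Subgroup.smul_mem_pointwise_smul _ (MulAut.conj (m : ↥E)) _ h1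
      have h3 : MulAut.conj (m : ↥E) • (⟨r * y * r⁻¹, hyr⟩ : ↥E) ∈
        (((m : ↥E) • P₂ : Sylow p ↥E) : Subgroup ↥E) := h2
      rw [hm'] at h3
      have e : ((m : ↥E) : G) * r * y * (((m : ↥E) : G) * r)⁻¹ =
          ((MulAut.conj (m : ↥E) • (⟨r * y * r⁻¹, hyr⟩ : ↥E) : ↥E) : G) := by simp [mul_assoc]
      rw [e]
      exact mem_inf.mpr ⟨h3, Subtype.coe_prop _⟩
    set ME := maxOver (T : Subgroup G) E with hME
    have hmrE : ((m : ↥E) : G) * r ∈ normalizer (E : Set G) :=
      mul_mem (Subgroup.le_normalizer (m : ↥E).2) (h.normalized E hE hrR)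
    have hmrM : ((m : ↥E) : G) * r ∈ normalizer (ME : Set G) := by
      refine Coprime.mem_normalizer_of_forall fun y hy => ?_
      have hle : ME.map (MulAut.conj (((m : ↥E) : G) * r)).toMonoidHom ≤ ME := by
        rw [hME, map_le_iff_le_comap]
        refine sSup_le fun Y hY => map_le_iff_le_comap.mp (le_sSup ⟨?_, ?_⟩)
        · exact (mem_normalizer_iff_map_conj_eq.mp hmr).ge.trans (map_mono hY.1)
        · exact ((map_lt_map_iff_of_injective (MulAut.conj _).injective).mpr hY.2).trans_le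
            (mem_normalizer_iff_map_conj_eq.mp hmrE).le
      exact hle (mem_map_of_mem _ hy)
    have hmM : ((m : ↥E) : G) ∈ ME := hM₀eq ▸ mem_map_of_mem E.subtype m.2
    simpa using mul_mem (inv_mem (Subgroup.le_normalizer hmM)) hmrM
  obtain ⟨M, hM, hXM⟩ := (eq_top_or_exists_le_coatom X₀).resolve_left hne
  refine ⟨M, ⟨hM, le_sup_left.trans hXM⟩, fun M' hM' => ?_⟩
  have := (hall M' hM'.2 hM'.1.1).trans hXM
  exact ((hM'.1.le_iff.mp this).resolve_left hM.1).symm

/-! ### Strongly `p`-irreducible members -/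

theorem pCore_member_eq_bot {ℱ : Set (Subgroup G)} (h : Family p ℱ) (hred : Cfsg.pCore p G = ⊥)
    {E : Subgroup G} (hE : E ∈ ℱ) : Cfsg.pCore p ↥E = ⊥ := by
  have := PReduced.pCore_map_subtype_le (p := p) (h.isSubnormal hE)
  rw [hred, le_bot_iff, map_eq_bot_iff_of_injective _ E.subtype_injective] at this
  exact this

/-- A central `p`-element of a group with trivial `p`-core is trivial. -/
theorem eq_one_of_central {E : Subgroup G} (hred : Cfsg.pCore p ↥E = ⊥) {c : G} (hcE : c ∈ E)
    (hc : ∀ e ∈ E, e * c = c * e) {k : ℕ} (hk : c ^ p ^ k = 1) : c = 1 := by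
  set c' : ↥E := ⟨c, hcE⟩
  have hmem : c' ∈ center ↥E := mem_center_iff.mpr fun e => Subtype.ext (hc e e.2)
  haveI : (zpowers c').Normal := ⟨fun z hz g => by
    have hzc : z ∈ center ↥E := zpowers_le.mpr hmem hz
    rw [mem_center_iff.mp hzc g, mul_inv_cancel_right]; exact hz⟩
  have hpg : IsPGroup p (zpowers c') := by
    rintro ⟨z, j, rfl⟩
    refine ⟨k, Subtype.ext ?_⟩
    show (c' ^ j) ^ p ^ k = 1
    rw [← zpow_natCast, ← zpow_mul, mul_comm, zpow_mul, zpow_natCast,
      show c' ^ p ^ k = 1 from Subtype.ext hk, one_zpow]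
  have := Cores.le_pCore (inferInstance : (zpowers c').Normal) hpg (mem_zpowers c')
  rw [hred, mem_bot] at this
  exact congrArg Subtype.val this

/-- `O^p(E) ≤ E'` for strongly `p`-irreducible `E` with trivial `p`-core. -/
theorem pResidual_le_commutator {E : Type*} [Group E] [Finite E]
    (hirr : Cfsg.IsStronglyPIrreducible p E) (hred : Cfsg.pCore p E = ⊥) :
    Cfsg.pResidual p E ≤ commutator E := by
  set O := Cfsg.pResidual p E with hO
  haveI : O.Normal := PReduced.pResidual_normal p E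
  by_cases h2 : ⁅⁅O, (⊤ : Subgroup E)⁆, (⊤ : Subgroup E)⁆ ≤ Cfsg.pCore p E
  · exfalso
    obtain ⟨T⟩ : Nonempty (Sylow p E) := inferInstance
    have hOT : O ≤ centralizer ((T : Subgroup E) : Set E) := (closure_le _).mpr fun e he => by
      refine mem_centralizer_iff.mpr fun t ht => ?_
      set c := t * e * t⁻¹ * e⁻¹ with hc
      have hcen : ∀ x : E, Commute c x := fun x => by
        have hmem : ⁅c, x⁆ ∈ ⁅⁅O, (⊤ : Subgroup E)⁆, (⊤ : Subgroup E)⁆ := by
          refine commutator_mem_commutator ?_ (mem_top x)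
          rw [commutator_comm]
          exact commutator_mem_commutator (mem_top t) (subset_closure he)
        have := h2 hmem
        rw [hred, mem_bot, commutatorElement_eq_one_iff_mul_comm] at this
        exact this
      obtain ⟨k, hk⟩ := T.2 ⟨t, ht⟩
      have htk : t ^ p ^ k = 1 := congrArg Subtype.val hk
      have hpow : ∀ n : ℕ, t ^ n * e * (t ^ n)⁻¹ = c ^ n * e := by
        intro n
        induction n with
        | zero => simp
        | succ n ih =>
          calc t ^ (n + 1) * e * (t ^ (n + 1))⁻¹ = t * (t ^ n * e * (t ^ n)⁻¹) * t⁻¹ := by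
                rw [pow_succ']; group
            _ = t * c ^ n * t⁻¹ * (t * e * t⁻¹) := by rw [ih]; group
            _ = c ^ n * (c * e) := by
                rw [← ((hcen t).pow_left n).eq]; rw [hc]; group
            _ = _ := by rw [pow_succ]; group
      have hck := hpow (p ^ k)
      rw [htk, one_mul, inv_one, mul_one] at hck
      exact (CharP.eq_one_of_commute he ⟨k, mul_eq_right.mp hck.symm⟩ (hcen e)).eq
    refine hirr.1 ((PIrred.isPClosed_iff T).mpr (Cores.le_pCore (normalizer_eq_top_iff.mp ?_) T.2))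
    refine top_le_iff.mp ((PReduced.pResidual_sup_sylow T).ge.trans
      (sup_le (hOT.trans (centralizer_le_normalizer _)) Subgroup.le_normalizer))
  · exact (hirr.2 ⁅O, (⊤ : Subgroup E)⁆ inferInstance h2).trans (commutator_mono le_top le_rfl)

theorem pRes_le_commutator {ℱ : Set (Subgroup G)} (h : Family p ℱ) (hred : Cfsg.pCore p G = ⊥)
    (hirr : ∀ E ∈ ℱ, Cfsg.IsStronglyPIrreducible p ↥E) {E : Subgroup G} (hE : E ∈ ℱ) :
    pRes p E ≤ ⁅E, E⁆ := by
  refine (map_mono (pResidual_le_commutator (hirr E hE) (pCore_member_eq_bot h hred hE))).trans ?_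
  rw [_root_.commutator_def, map_commutator, ← MonoidHom.range_eq_map, range_subtype]

/-- Acting on a member `E` with commutators central in `E` means centralizing it. -/
theorem commutator_eq_bot {ℱ : Set (Subgroup G)} (h : Family p ℱ) (hred : Cfsg.pCore p G = ⊥)
    (hirr : ∀ E ∈ ℱ, Cfsg.IsStronglyPIrreducible p ↥E) {E K : Subgroup G} (hE : E ∈ ℱ)
    (hKE : K ≤ normalizer (E : Set G)) (hc : ⁅⁅K, E⁆, E⁆ = ⊥) : ⁅K, E⁆ = ⊥ := by
  have h3 : ⁅⁅E, E⁆, K⁆ = ⊥ := commutator_commutator_eq_bot_of_rotate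
    (by rw [commutator_comm E K]; exact hc) hc
  rw [commutator_eq_bot_iff_le_centralizer]
  intro k hk
  refine mem_centralizer_iff.mpr fun e he => ?_
  set T := (default : Sylow p ↥E)
  have hle : E ≤ centralizer ({k} : Set G) := by
    refine (pRes_sup_sylow T).ge.trans (sup_le ?_ ?_)
    · refine (pRes_le_commutator h hred hirr hE).trans fun x hx => mem_centralizer_singleton_iff.mpr ?_
      exact (commutatorElement_eq_one_iff_mul_comm.mp
        (mem_bot.mp (h3.le (commutator_mem_commutator hx hk))))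
    · rintro _ ⟨t, ht, rfl⟩
      obtain ⟨n, hn⟩ := T.2 ⟨t, ht⟩
      have htn : (t : G) ^ p ^ n = 1 := congrArg (fun z : (T : Subgroup ↥E) => ((z : ↥E) : G)) hn
      set c := k * (t : G) * k⁻¹ * (t : G)⁻¹ with hcdef
      have hcm : c ∈ ⁅K, E⁆ := commutator_mem_commutator hk t.2
      have hcen : ∀ x ∈ E, x * c = c * x := fun x hx =>
        (commutatorElement_eq_one_iff_mul_comm.mp
          (mem_bot.mp (hc.le (commutator_mem_commutator hcm hx)))).symm
      have hcE : c ∈ E := mul_mem ((mem_normalizer_iff.mp (hKE hk) _).mp t.2) (inv_mem t.2)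
      have hct : c * (t : G) = k * (t : G) * k⁻¹ := by rw [hcdef]; group
      have hcp : c ^ p ^ n = 1 := by
        have hcomm : Commute c (t : G) := (hcen t t.2).symm
        have h1 := hcomm.mul_pow (p ^ n)
        rw [hct, conj_pow, htn, mul_one, mul_one, mul_inv_cancel] at h1
        exact h1.symm
      have hc1 := eq_one_of_central (pCore_member_eq_bot h hred hE) hcE hcen hcp
      rw [hcdef, mul_inv_eq_one, mul_inv_eq_iff_eq_mul] at hc1
      exact mem_centralizer_singleton_iff.mpr hc1.symm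
  exact mem_centralizer_singleton_iff.mp (hle he)

theorem pRes_conj (E : Subgroup G) (g : G) :
    (pRes p E).map (MulAut.conj g).toMonoidHom ≤ pRes p (E.map (MulAut.conj g).toMonoidHom) := by
  rw [map_le_iff_le_comap]
  refine pRes_le_of_forall fun x hx hxp => mem_pRes (mem_map_of_mem _ hx) ?_
  rwa [orderOf_injective _ (MulAut.conj g).injective]

/-- A normal subgroup contains all `O^p(E)`, or its intersection with `⟨ℱ⟩` centralizes `⟨ℱ⟩`. -/
theorem normal_dichotomy {ℱ : Set (Subgroup G)} (h : Family p ℱ) (hred : Cfsg.pCore p G = ⊥)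
    (hirr : ∀ E ∈ ℱ, Cfsg.IsStronglyPIrreducible p ↥E) (N : Subgroup G) [hN : N.Normal] :
    (∀ E ∈ ℱ, pRes p E ≤ N) ∨ ⁅N ⊓ sSup ℱ, sSup ℱ⁆ = ⊥ := by
  by_cases hex : ∃ E ∈ ℱ, ⁅N ⊓ E, E⁆ ≠ ⊥
  · left
    obtain ⟨E, hE, hne⟩ := hex
    have hEN : pRes p E ≤ N := by
      have h1 := (hirr E hE).2 (N.subgroupOf E) inferInstance (fun hle => hne ?_)
      · rw [pRes, map_le_iff_le_comap]; exact h1
      · rw [pCore_member_eq_bot h hred hE, le_bot_iff] at hle
        have := congrArg (Subgroup.map E.subtype) hle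
        rwa [map_commutator, Subgroup.map_bot, subgroupOf_map_subtype, ← MonoidHom.range_eq_map,
          range_subtype] at this
    intro K hK
    obtain ⟨g, rfl⟩ := h.trans E hE K hK
    refine pRes_le_of_forall fun x hx hxp => ?_
    obtain ⟨y, hy, rfl⟩ := hx
    rw [orderOf_injective _ (MulAut.conj g).injective] at hxp
    exact hN.conj_mem y (hEN (mem_pRes hy hxp)) g
  · right
    push Not at hex
    rw [commutator_eq_bot_iff_le_centralizer, le_centralizer_iff]
    refine sSup_le fun E hE => ?_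
    rw [le_centralizer_iff, ← commutator_eq_bot_iff_le_centralizer]
    refine commutator_eq_bot h hred hirr hE (inf_le_right.trans (h.normalized E hE))
      (le_bot_iff.mp (le_trans (commutator_mono (le_inf ?_ ?_) le_rfl) (hex E hE).le))
    · exact (commutator_mono inf_le_left le_rfl).trans (commutator_le_left N E)
    · exact le_normalizer_iff_commutator_le_right.mp (inf_le_right.trans (h.normalized E hE))

theorem isPIrreducible {ℱ : Set (Subgroup G)} (h : Family p ℱ) (hred : Cfsg.pCore p G = ⊥)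
    (hirr : ∀ E ∈ ℱ, Cfsg.IsStronglyPIrreducible p ↥E) : Cfsg.IsPIrreducible p G := by
  obtain ⟨T⟩ : Nonempty (Sylow p G) := inferInstance
  refine ⟨fun hcl => ?_, fun N hN hNc => ?_⟩
  · obtain ⟨E, hE⟩ := h.nonempty
    refine (hirr E hE).1 ((PIrred.isPClosed_iff (PReduced.sylowOfSubnormal T (h.isSubnormal hE))).mpr ?_)
    have hT := (PIrred.isPClosed_iff T).mp hcl
    rw [hred, le_bot_iff] at hT
    rw [PReduced.sylowOfSubnormal_coe, hT, bot_subgroupOf]
    exact bot_le
  haveI := h.sSup_normal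
  set R := sSup ℱ with hR
  set N₀ := ⨆ E ∈ ℱ, pRes p E with hN₀
  have hN₀n : ∀ g : G, g ∈ normalizer (N₀ : Set G) := fun g =>
    Coprime.mem_normalizer_of_forall fun x hx => by
      have hle : N₀ ≤ N₀.comap (MulAut.conj g).toMonoidHom := iSup₂_le fun E hE =>
        map_le_iff_le_comap.mp ((pRes_conj E g).trans
          (le_iSup₂_of_le _ (h.conj_mem g E hE) le_rfl))
      exact hle hx
  have hRle : R ≤ ((T : Subgroup G) ⊓ R) ⊔ N₀ := sSup_le fun E hE => by
    refine (pRes_sup_sylow (PReduced.sylowOfSubnormal T (h.isSubnormal hE))).ge.trans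
      (sup_le (le_sup_of_le_right (le_iSup₂_of_le E hE le_rfl)) (le_sup_of_le_left ?_))
    rintro _ ⟨x, hx, rfl⟩
    exact mem_inf.mpr ⟨hx, le_sSup (s := ℱ) hE x.2⟩
  have hres : Cfsg.pResidual p G ≤ N₀ := (closure_le _).mpr fun g hg => by
    exact mem_of_mem_sup_pGroup (T.2.to_le inf_le_left) (fun t _ => hN₀n t)
      (hRle (h.residual_le (Transfer.mem_pResidual_of_coprime hg))) hg
  rcases normal_dichotomy h hred hirr N with hall | hcen
  · exact hres.trans (iSup₂_le hall)
  exfalso
  have hNR : ⁅⁅N, R⁆, R⁆ = ⊥ :=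
    le_bot_iff.mp ((commutator_mono (commutator_le_inf N R) le_rfl).trans hcen.le)
  have h3 : ⁅⁅R, R⁆, N⁆ = ⊥ := commutator_commutator_eq_bot_of_rotate
    (by rw [commutator_comm R N]; exact hNR) hNR
  rw [commutator_eq_bot_iff_le_centralizer] at h3
  have hO : Cfsg.pResidual p G ≤ centralizer (N : Set G) := hres.trans (iSup₂_le fun E hE =>
    ((pRes_le_commutator h hred hirr hE).trans (commutator_mono (le_sSup hE) (le_sSup hE))).trans h3)
  refine hNc (PIrred.isPClosed_of_sylow_inf_le T (le_of_eq_of_le ?_ bot_le))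
  refine le_bot_iff.mp (hred ▸ Cores.le_pCore (normalizer_eq_top_iff.mp (top_le_iff.mp ?_))
    (T.2.to_le inf_le_left))
  refine (PReduced.pResidual_sup_sylow T).ge.trans (sup_le ?_ ?_)
  · exact (hO.trans (centralizer_le (SetLike.coe_subset_coe.mpr inf_le_right))).trans
      (centralizer_le_normalizer _)
  · exact (le_inf Subgroup.le_normalizer (normalizer_eq_top (H := N) ▸ le_top)).trans
      inf_normalizer_le_normalizer_inf

theorem eq_or_commute {ℱ : Set (Subgroup G)} (h : Family p ℱ) (hred : Cfsg.pCore p G = ⊥)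
    (hirr : ∀ E ∈ ℱ, Cfsg.IsStronglyPIrreducible p ↥E) {E K : Subgroup G} (hE : E ∈ ℱ)
    (hK : K ∈ ℱ) : pRes p E = pRes p K ∨ ⁅E, K⁆ = ⊥ := by
  have hEK : E ≤ normalizer (K : Set G) := (le_sSup hE).trans (h.normalized K hK)
  have hKE : K ≤ normalizer (E : Set G) := (le_sSup hK).trans (h.normalized E hE)
  have key : ∀ A B : Subgroup G, A ∈ ℱ → B ∈ ℱ → A ≤ normalizer (B : Set G) → ⁅A ⊓ B, A⁆ ≠ ⊥ →
      pRes p A = pRes p B := by
    intro A B hA hB hn hne
    have h1 := (hirr A hA).2 ((A ⊓ B).subgroupOf A) (Cores.subgroupOf_normal_of_le_normalizer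
      ((le_inf Subgroup.le_normalizer hn).trans inf_normalizer_le_normalizer_inf)) (fun hle => hne ?_)
    · have hle : pRes p A ≤ pRes p B := pRes_le_of_forall fun x hx hxp =>
        mem_pRes (show (⟨x, hx⟩ : ↥A) ∈ (A ⊓ B).subgroupOf A from
          h1 (Transfer.mem_pResidual_of_coprime (by rwa [Subgroup.orderOf_mk]))).2 hxp
      refine eq_of_le_of_card_ge hle ?_
      obtain ⟨g, rfl⟩ := h.trans B hB A hA
      calc Nat.card (pRes p B) = Nat.card ((pRes p B).map (MulAut.conj g).toMonoidHom) :=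
            (card_map_of_injective (MulAut.conj g).injective).symm
        _ ≤ _ := card_le_of_le (pRes_conj B g)
    · rw [pCore_member_eq_bot h hred hA, le_bot_iff] at hle
      have := congrArg (Subgroup.map A.subtype) hle
      rwa [map_commutator, Subgroup.map_bot, map_subgroupOf_eq_of_le inf_le_left,
        ← MonoidHom.range_eq_map, range_subtype] at this
  by_cases h1 : ⁅E ⊓ K, E⁆ = ⊥
  · right
    rw [commutator_comm]
    refine commutator_eq_bot h hred hirr hE hKE (le_bot_iff.mp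
      ((commutator_mono (le_inf ?_ ?_) le_rfl).trans h1.le))
    · exact le_normalizer_iff_commutator_le_right.mp hKE
    · exact le_normalizer_iff_commutator_le_left.mp hEK
  · exact Or.inl (key E K hE hK hEK h1)

end Cfsg.Agent.TransitiveFamily
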